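import Groth.Agent.HilbSurf.FT
import Groth.Agent.HilbConn.Push
import Groth.Agent.LHilb.CM2App
import Groth.Agent.LHilb.HilbScheme
import Groth.Agent.ObsBound.Lifting
import Groth.Agent.CMChart.Locus
import Groth.Agent.RegDual.Scheme
import Groth.Agent.PtBlow.Rational
import Groth.Agent.InfLift.SchemeSmallExt
import Mathlib

/-!
# The Hilbert scheme of points of a smooth surface is regular at closed points
-/

set_option autoImplicit false
set_option backward.isDefEq.respectTransparency false
set_option linter.style.haveILetI false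
set_option maxHeartbeats 1600000
universe u

open CategoryTheory CategoryTheory.Limits AlgebraicGeometry IsLocalRing ArtFun ArtFun.Art

noncomputable section

namespace Groth.Agent.HilbSurf

theorem pull_eq_comap {X S : Scheme.{u}} (f : X ⟶ S) {T T' : Over S} (g : T' ⟶ T)
    (I : (PicF.XT f T).IdealSheafData) : HilbD.pull f g I = I.comap (PicF.XTmap f g) :=
  LHilb.hilbPull_eq_comap f g I

section Comap

variable {W W' T T' : Scheme.{u}} {m : W' ⟶ W} {π : W ⟶ T} {π' : W' ⟶ T'} {g : T' ⟶ T}

theorem isPullback_comap (sq : IsPullback m π' π g) (J : W.IdealSheafData) :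
    ∃ a : (J.comap m).subscheme ⟶ J.subscheme,
      IsPullback a ((J.comap m).subschemeι ≫ π') (J.subschemeι ≫ π) g := by
  refine ⟨(J.comapIso m).hom ≫ pullback.snd m J.subschemeι, ?_⟩
  have h := ((IsPullback.of_hasPullback m J.subschemeι).flip).paste_vert sq
  refine h.of_iso (J.comapIso m).symm (Iso.refl _) (Iso.refl _) (Iso.refl _) ?_ ?_ (by simp) (by simp)
  · rw [Iso.refl_hom, Category.comp_id, Iso.symm_hom, Iso.inv_hom_id_assoc]
  · simp only [Iso.refl_hom, Category.comp_id, Iso.symm_hom]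
    rw [← Scheme.IdealSheafData.comapIso_hom_fst J m, Category.assoc, Iso.inv_hom_id_assoc]

theorem deg_comap {n : ℕ} (sq : IsPullback m π' π g) (J : W.IdealSheafData)
    (hJ : Mor2.IsFinLocFreeOfDeg n (J.subschemeι ≫ π)) :
    Mor2.IsFinLocFreeOfDeg n ((J.comap m).subschemeι ≫ π') := by
  obtain ⟨a, h⟩ := isPullback_comap sq J
  obtain ⟨⟨h1, h2, h3⟩, hd⟩ := hJ
  haveI := h1
  haveI := h2
  haveI := h3
  refine ⟨⟨MorphismProperty.of_isPullback (P := @IsFinite) h h1, MorphismProperty.of_isPullback (P := @Flat) h h2,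
    MorphismProperty.of_isPullback (P := @LocallyOfFinitePresentation) h h3⟩, fun y => ?_⟩
  rw [Scheme.Hom.finrank_of_isPullback a _ _ g h y, hd]

end Comap

variable {k : Type u} [Field k] {Y : Scheme.{u}} (f : Y ⟶ Spec (CommRingCat.of k))

/-- The closed fibre over the base point. -/
def fsec : Y ⟶ PicF.XT f (Over.mk (𝟙 (Spec (CommRingCat.of k)))) := pullback.lift (𝟙 Y) f (by simp)

theorem fsec_fst : fsec f ≫ pullback.fst f (Over.mk (𝟙 (Spec (CommRingCat.of k)))).hom = 𝟙 Y :=
  pullback.lift_fst _ _ _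

theorem isPullback_fsec :
    IsPullback (fsec f) f (PicF.XTproj f (Over.mk (𝟙 (Spec (CommRingCat.of k))))) (𝟙 _) := by
  refine IsPullback.of_right ?_ ((pullback.lift_snd _ _ _).trans (Category.comp_id _).symm)
    (IsPullback.of_hasPullback f (Over.mk (𝟙 (Spec (CommRingCat.of k)))).hom)
  rw [fsec_fst]
  simp
  exact IsPullback.of_horiz_isIso ⟨by simp⟩

theorem isPullback_XTmap {H T : Over (Spec (CommRingCat.of k))} (g : T ⟶ H) :
    IsPullback (PicF.XTmap f g) (PicF.XTproj f T) (PicF.XTproj f H) g.left := by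
  refine IsPullback.of_right ?_ (pullback.lift_snd _ _ _) (IsPullback.of_hasPullback f H.hom)
  rw [PicF.XTmap, pullback.lift_fst, Category.comp_id, Over.w g]
  exact IsPullback.of_hasPullback f T.hom

theorem isPullback_XAincl (A : Art k k) : IsPullback (XAincl f A) f (XApr f A) (specRes A) := by
  refine IsPullback.of_right ?_ (XAincl_snd f A) (IsPullback.of_hasPullback f (specOver A))
  rw [XAincl_fst, show specRes A ≫ specOver A = 𝟙 _ from by
    change specRes A ≫ specMap (ofBase A) = 𝟙 _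
    rw [specRes_comp]
    exact (Category.id_comp _).symm.trans (comp_specRes_base (𝟙 (specPt k)))]
  exact IsPullback.of_horiz_isIso ⟨by simp⟩

theorem subsingleton_spec (A : Art k k) : Subsingleton (spec A) := by
  have hmax : ∀ a : PrimeSpectrum A.carrier, a.asIdeal = maximalIdeal A.carrier := fun a => by
    haveI := a.isPrime
    exact IsLocalRing.eq_maximalIdeal (IsArtinianRing.isMaximal_of_isPrime a.asIdeal)
  exact ⟨fun a b => PrimeSpectrum.ext ((hmax a).trans (hmax b).symm)⟩

/-- Flat deformations of a finite subscheme are finite locally free of the same degree. -/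
theorem deg_of_flatOver [LocallyOfFiniteType f] {n : ℕ} {I₀ : Y.IdealSheafData}
    (hI₀ : Mor2.IsFinLocFreeOfDeg n (I₀.subschemeι ≫ f)) (A : Art k k) (I : (localHilb Y f I₀).obj A) :
    Mor2.IsFinLocFreeOfDeg n (I.1.subschemeι ≫ XApr f A) := by
  obtain ⟨⟨hfin₀, -, -⟩, hd₀⟩ := hI₀
  haveI := hfin₀
  haveI : Flat (I.1.subschemeι ≫ XApr f A) := I.2.1
  let q := I.1.subschemeι ≫ XApr f A
  haveI := subsingleton_spec A
  obtain ⟨a, ha⟩ : ∃ a : I₀.subscheme ⟶ I.1.subscheme, IsPullback a (I₀.subschemeι ≫ f) q (specRes A) := by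
    have h := isPullback_comap (isPullback_XAincl f A) I.1
    have e : I.1.comap (XAincl f A) = I₀ := I.2.2
    rw [e] at h
    exact h
  -- the closed fibre is everything
  haveI : Surjective (specRes A) := ⟨fun s => ⟨closedPoint k, Subsingleton.elim _ _⟩⟩
  have hsurj : Function.Surjective a := fun w => by
    obtain ⟨v, hv, -⟩ := Scheme.Pullback.exists_preimage_pullback (f := q) (g := specRes A) w (closedPoint k)
      (Subsingleton.elim (q w) (specRes A (closedPoint k)))
    refine ⟨ha.isoPullback.inv v, ?_⟩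
    rw [← Scheme.Hom.comp_apply, ha.isoPullback_inv_fst]
    exact hv
  haveI : Finite I₀.subscheme := by
    have h : (Set.univ : Set I₀.subscheme).Finite := by
      refine ((I₀.subschemeι ≫ f).finite_preimage_singleton (closedPoint k)).subset fun w _ => ?_
      exact Subsingleton.elim _ _
    exact Set.finite_univ_iff.1 h
  haveI : Finite I.1.subscheme := Finite.of_surjective _ hsurj
  haveI : LocallyQuasiFinite q := LocallyQuasiFinite.of_finite_preimage_singleton q fun x => Set.toFinite _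
  haveI : QuasiCompact q := inferInstance
  haveI : IsLocallyArtinian (spec A) := by
    change IsLocallyArtinian (Spec (CommRingCat.of A.carrier))
    infer_instance
  haveI : IsFinite q := IsFinite.of_locallyQuasiFinite q
  haveI : IsLocallyNoetherian (spec A) := inferInstance
  refine ⟨⟨‹IsFinite q›, I.2.1, InfLift.lfp_of_lft q⟩, fun s => ?_⟩
  rw [Subsingleton.elim s (specRes A (closedPoint k)), ← Scheme.Hom.finrank_of_isPullback a _ q _ ha (closedPoint k)]
  exact hd₀ _

variable {f}

/-- The lifting property at a rational point. -/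
theorem exists_lift_point [IsSeparated f] [LocallyOfFiniteType f] {n : ℕ} {H : Over (Spec (CommRingCat.of k))} {Z : HilbD.Obj f n H}
    (hH : HilbD.IsUniversal f n H Z) (h : Over.mk (𝟙 (Spec (CommRingCat.of k))) ⟶ H)
    (hsm : ∀ I₀ : Y.IdealSheafData, Mor2.IsFinLocFreeOfDeg n (I₀.subschemeι ≫ f) →
      IsSmoothFunctor (localHilb Y f I₀))
    {B A : Art k k} (μ : B ⟶ A) (hμ : Function.Surjective μ)
    (φ : HomSet (LHilb.locR H h) (LHilb.locRes H h) A) :
    ∃ ψ : HomSet (LHilb.locR H h) (LHilb.locRes H h) B, HomSet.map μ ψ = φ := by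
  let J₀ := Z.1.comap (PicF.XTmap f h)
  let I₀ := J₀.comap (fsec f)
  have hJ₀ : Mor2.IsFinLocFreeOfDeg n (J₀.subschemeι ≫ PicF.XTproj f _) :=
    deg_comap (isPullback_XTmap f h) Z.1 Z.2
  have hI₀ : Mor2.IsFinLocFreeOfDeg n (I₀.subschemeι ≫ f) := deg_comap (isPullback_fsec f) J₀ hJ₀
  have hincl : ∀ {C : Art k k} (g : Over.mk (specOver C) ⟶ H), specRes C ≫ g.left = h.left →
      (Z.1.comap (PicF.XTmap f g)).comap (XAincl f C) = I₀ := by
    intro C g hg
    have e : XAincl f C ≫ PicF.XTmap f g = fsec f ≫ PicF.XTmap f h := by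
      apply pullback.hom_ext
      · simp [PicF.XTmap, fsec, XAincl]
      · rw [Category.assoc, Category.assoc, PicF.XTmap, PicF.XTmap, pullback.lift_snd, pullback.lift_snd,
          fsec, pullback.lift_snd_assoc]
        refine (pullback.lift_snd_assoc _ _ _ _).trans ?_
        rw [Category.assoc, hg]
    change _ = (Z.1.comap (PicF.XTmap f h)).comap (fsec f)
    rw [← Scheme.IdealSheafData.comap_comp, e, Scheme.IdealSheafData.comap_comp]
  let g := LHilb.pointOf φ
  have hg : specRes A ≫ g.left = h.left := LHilb.specRes_pointOf φ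
  let z : (localHilb Y f I₀).obj A :=
    ⟨Z.1.comap (PicF.XTmap f g), (deg_comap (isPullback_XTmap f g) Z.1 Z.2).1.2.1, hincl g hg⟩
  obtain ⟨w, hw⟩ := hsm I₀ hI₀ μ hμ z
  let Zw : HilbD.Obj f n (Over.mk (specOver B)) := ⟨w.1, deg_of_flatOver f hI₀ B w⟩
  obtain ⟨gB, hgB, -⟩ := hH (Over.mk (specOver B)) Zw
  rw [pull_eq_comap] at hgB
  let mμ : Over.mk (specOver A) ⟶ Over.mk (specOver B) := Over.homMk (specMap μ) (specOver_comp μ)
  have hmμ : mμ ≫ gB = g := by
    let Zz : HilbD.Obj f n (Over.mk (specOver A)) :=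
      ⟨Z.1.comap (PicF.XTmap f g), deg_comap (isPullback_XTmap f g) Z.1 Z.2⟩
    refine (hH (Over.mk (specOver A)) Zz).unique ?_ (pull_eq_comap f g Z.1)
    rw [pull_eq_comap, LHilb.XTmap_comp', Scheme.IdealSheafData.comap_comp, hgB]
    refine Eq.trans ?_ (congrArg (fun v : (localHilb Y f I₀).obj A => v.1) hw)
    change w.1.comap _ = w.1.comap (XAmap f μ)
    refine congrArg (fun e => w.1.comap e) ?_
    apply pullback.hom_ext
    · exact ((pullback.lift_fst _ _ _).trans (Category.comp_id _)).trans (XAmap_fst f μ).symm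
    · exact (pullback.lift_snd _ _ _).trans (XAmap_snd f μ).symm
  have hgB' : specRes B ≫ gB.left = h.left := by
    rw [← hg, ← hmμ, Over.comp_left, ← specRes_comp μ, Category.assoc]
    rfl
  obtain ⟨ψ, hψ⟩ := LHilb.exists_pointOf gB hgB'
  refine ⟨ψ, LHilb.pointOf_injective ?_⟩
  change LHilb.pointOf (HomSet.map μ ψ) = g
  rw [← hmμ, ← hψ]
  refine Over.OverMorphism.ext ?_
  rw [Over.comp_left, LHilb.pointOf_left, LHilb.pointOf_left, ← Category.assoc]
  refine congrArg (· ≫ _) ?_
  change Spec.map _ = Spec.map _ ≫ Spec.map _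
  rw [← Spec.map_comp]
  rfl

theorem essFiniteType_locR {H : Over (Spec (CommRingCat.of k))} [LocallyOfFiniteType H.hom]
    (h : Over.mk (𝟙 (Spec (CommRingCat.of k))) ⟶ H) : Algebra.EssFiniteType k (LHilb.locR H h) := by
  obtain ⟨U, hU, hxU, -⟩ := exists_isAffineOpen_mem_and_subset (x := LHilb.pt H h) (U := ⊤) trivial
  obtain ⟨c, rfl⟩ : ∃ c : HilbConn.Chart H.hom, c.D = U := ⟨⟨U, hU⟩, rfl⟩
  letI : Algebra Γ(H.left, c.D) (LHilb.locR H h) := (H.left.presheaf.germ c.D (LHilb.pt H h) hxU).hom.toAlgebra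
  letI : Algebra c.A (LHilb.locR H h) := (H.left.presheaf.germ c.D (LHilb.pt H h) hxU).hom.toAlgebra
  haveI : IsScalarTower k c.A (LHilb.locR H h) := IsScalarTower.of_algebraMap_eq' (by
    have e : LHilb.cst H h = CommRingCat.ofHom (algebraMap k c.A) ≫ H.left.presheaf.germ c.D (LHilb.pt H h) hxU := by
      apply Spec.map_injective
      rw [LHilb.map_cst, Spec.map_comp, ← hU.fromSpecStalk_eq_fromSpecStalk hxU, IsAffineOpen.fromSpecStalk,
        Category.assoc]
      exact congrArg (_ ≫ ·) c.ι_f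
    exact congrArg CommRingCat.Hom.hom e)
  haveI : IsLocalization.AtPrime (LHilb.locR H h) (hU.primeIdealOf ⟨LHilb.pt H h, hxU⟩).asIdeal :=
    hU.isLocalization_stalk ⟨LHilb.pt H h, hxU⟩
  haveI : Algebra.FiniteType k c.A := inferInstance
  haveI : Algebra.EssFiniteType c.A (LHilb.locR H h) :=
    Algebra.EssFiniteType.of_isLocalization _ (hU.primeIdealOf ⟨LHilb.pt H h, hxU⟩).asIdeal.primeCompl
  exact Algebra.EssFiniteType.comp k c.A _

variable [IsAlgClosed k]

theorem eq_locRes {H : Over (Spec (CommRingCat.of k))} (h : Over.mk (𝟙 (Spec (CommRingCat.of k))) ⟶ H)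
    (χ : LHilb.locR H h →ₐ[k] k) : χ = LHilb.locRes H h := by
  have hs : ∀ χ : LHilb.locR H h →ₐ[k] k, RingHom.ker χ = maximalIdeal (LHilb.locR H h) := fun χ =>
    IsLocalRing.eq_maximalIdeal (RingHom.ker_isMaximal_of_surjective χ fun c => ⟨algebraMap k _ c, χ.commutes c⟩)
  refine AlgHom.ext fun a => ?_
  have h1 : a - algebraMap k _ (LHilb.locRes H h a) ∈ RingHom.ker χ := by
    rw [hs χ, ← hs (LHilb.locRes H h), RingHom.mem_ker, map_sub, AlgHom.commutes]
    exact sub_self _
  rw [RingHom.mem_ker, map_sub, AlgHom.commutes] at h1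
  exact sub_eq_zero.1 h1

theorem exists_art (B : Type u) [CommRing B] [IsLocalRing B] [Algebra k B] [Module.Finite k B] :
    ∃ χ : B →ₐ[k] k, Function.Surjective χ := by
  haveI : Algebra.IsIntegral k (ResidueField B) := Algebra.IsIntegral.of_finite k _
  let e := AlgEquiv.ofBijective (Algebra.ofId k (ResidueField B)) IsAlgClosed.algebraMap_bijective_of_isIntegral
  exact ⟨e.symm.toAlgHom.comp (IsScalarTower.toAlgHom k B (ResidueField B)),
    e.symm.surjective.comp IsLocalRing.residue_surjective⟩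

/-- Regularity at closed points. -/
theorem regular_closed [IsSeparated f] [LocallyOfFiniteType f] {n : ℕ} {H : Over (Spec (CommRingCat.of k))}
    [LocallyOfFiniteType H.hom] {Z : HilbD.Obj f n H} (hH : HilbD.IsUniversal f n H Z)
    (hsm : ∀ I₀ : Y.IdealSheafData, Mor2.IsFinLocFreeOfDeg n (I₀.subschemeι ≫ f) →
      IsSmoothFunctor (localHilb Y f I₀))
    (x : H.left) (hx : IsClosed ({x} : Set H.left)) : IsRegularLocalRing (H.left.presheaf.stalk x) := by
  let h : Over.mk (𝟙 (Spec (CommRingCat.of k))) ⟶ H :=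
    Over.homMk (pointOfClosedPoint H.hom x hx) (pointOfClosedPoint_comp H.hom x hx)
  have hpt : LHilb.pt H h = x := pointOfClosedPoint_apply H.hom x hx _
  suffices IsRegularLocalRing (LHilb.locR H h) by rwa [← hpt]
  haveI := essFiniteType_locR h
  have hres : Function.Surjective (algebraMap k (ResidueField (LHilb.locR H h))) := fun q => by
    obtain ⟨a, rfl⟩ := IsLocalRing.residue_surjective q
    refine ⟨LHilb.locRes H h a, ?_⟩
    rw [IsScalarTower.algebraMap_apply k (LHilb.locR H h) (ResidueField (LHilb.locR H h))]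
    refine Ideal.Quotient.eq.2 ?_
    rw [← IsLocalRing.eq_maximalIdeal (RingHom.ker_isMaximal_of_surjective (LHilb.locRes H h)
      fun c => ⟨algebraMap k _ c, (LHilb.locRes H h).commutes c⟩), RingHom.mem_ker, map_sub, AlgHom.commutes]
    exact sub_self _
  refine (ObsBound.regular_iff_lift k (LHilb.locR H h) hres).2 fun B' _ _ _ _ J hJ φ => ?_
  by_cases hJt : J = ⊤
  · subst hJt
    refine ⟨(Algebra.ofId k B').comp (LHilb.locRes H h), AlgHom.ext fun a => ?_⟩
    exact (Ideal.Quotient.subsingleton_iff.2 rfl).elim _ _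
  haveI : IsArtinianRing B' := IsArtinianRing.of_finite k B'
  haveI : Nontrivial (B' ⧸ J) := Ideal.Quotient.nontrivial_iff.2 hJt
  haveI : IsLocalRing (B' ⧸ J) := .of_surjective' (Ideal.Quotient.mk J) Ideal.Quotient.mk_surjective
  obtain ⟨χ, hχ⟩ := exists_art (k := k) (B' ⧸ J)
  let A : Art k k := Art.of (B' ⧸ J) χ hχ
  let B : Art k k := Art.of B' (χ.comp (Ideal.Quotient.mkₐ k J)) (hχ.comp Ideal.Quotient.mk_surjective)
  let μ : B ⟶ A := homMk (Ideal.Quotient.mkₐ k J) rfl
  obtain ⟨ψ, hψ⟩ := exists_lift_point hH h hsm μ Ideal.Quotient.mk_surjective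
    ⟨φ, eq_locRes h (χ.comp φ)⟩
  exact ⟨ψ.1, congrArg Subtype.val hψ⟩

/-- Finite subschemes of smooth surfaces deform without obstruction. -/
theorem isSmoothFunctor_finite [Smooth f] (h2 : ∀ y : Y, IsClosed ({y} : Set Y) → ringKrullDim (Y.presheaf.stalk y) = 2)
    {n : ℕ} (I₀ : Y.IdealSheafData) (hI₀ : Mor2.IsFinLocFreeOfDeg n (I₀.subschemeι ≫ f)) :
    IsSmoothFunctor (localHilb Y f I₀) := by
  haveI : IsLocallyNoetherian Y := LocallyOfFiniteType.isLocallyNoetherian f
  haveI := hI₀.1.1
  haveI : IsLocallyArtinian I₀.subscheme := IsLocallyArtinian.of_locallyQuasiFinite (I₀.subschemeι ≫ f)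
  haveI : IsAffine I₀.subscheme := isAffine_of_isAffineHom (I₀.subschemeι ≫ f)
  have hdim : topologicalKrullDim I₀.subscheme ≤ 0 := topologicalKrullDim_zero_of_discreteTopology I₀.subscheme
  have hst : ∀ y : I₀.subscheme, ringKrullDim (I₀.subscheme.presheaf.stalk y) = 0 := fun y =>
    le_antisymm ((RegDual.ringKrullDim_stalk_le_topologicalKrullDim y).trans hdim)
      ringKrullDim_nonneg_of_nontrivial
  haveI := W7Hull.hasSheafHom_sch (Omega.conormal I₀.subschemeι)
  refine LHilb.isSmoothFunctor_of_cm_two f I₀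
    (fun y => CMChart.isCohenMacaulayLocalRing_of_dim_zero (hst y)) (fun y => ?_) ?_
  · rw [hst y, zero_add, h2]
    have := I₀.subschemeι.isClosedEmbedding.isClosedMap _ (isClosed_discrete ({y} : Set I₀.subscheme))
    rwa [Set.image_singleton] at this
  · have hc : Coh.IsCoh (Omega.conormal I₀.subschemeι) := QC.isCoh_pullback _ (CurveRR.isCoh_idealMod _).1
    haveI : (RefHull.homSh (Omega.conormal I₀.subschemeι) (Coh.structureModule I₀.subscheme)).IsQuasicoherent :=
      (RefStalk.isCoh_homSh hc RefStalk.isCoh_structureModule).1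
    exact PicSmooth.subsingleton_hh_of_iso ((W7Hull.sheafHomIso _).app _).symm 1
      (PtBlow.subsingleton_hh_of_isAffine
        (RefHull.homSh (Omega.conormal I₀.subschemeι) (Coh.structureModule I₀.subscheme)))

end Groth.Agent.HilbSurf
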