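import Groth.Agent.HilbSurf.Tan
import Groth.Agent.HilbSurf.Smooth
import Groth.Agent.HilbConn.Main
import Mathlib

/-!
# The tangent space of the Hilbert scheme at distinct points of a surface
-/

set_option autoImplicit false
set_option maxSynthPendingDepth 3
set_option backward.isDefEq.respectTransparency false
set_option linter.style.haveILetI false
set_option maxHeartbeats 4000000
universe u

open CategoryTheory CategoryTheory.Limits AlgebraicGeometry IsLocalRing ArtFun ArtFun.Art
open scoped TensorProduct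

noncomputable section

namespace Groth.Agent.HilbSurf

open Groth.Agent.HilbRep Groth.Agent.Punct Groth.Agent.HilbConn

variable {k : Type u} [Field k] {Y : Scheme.{u}} {f : Y ⟶ Spec (CommRingCat.of k)} [IsSeparated f] {n : ℕ}

theorem famY_congr (c : Chart f) {B : Type u} [CommRing B] [Algebra k B] {J J' : Ideal (B ⊗[k] c.A)} (e : J = J')
    (h : HasBasis n J) (h' : HasBasis n J') : famY c h = famY c h' := by
  subst e
  rfl

theorem famY_inj (c : Chart f) {B : Type u} [CommRing B] [Algebra k B] {J J' : Ideal (B ⊗[k] c.A)}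
    (h : HasBasis n J) (h' : HasBasis n J') (e : famY c h = famY c h') : J = J' := by
  have h1 := comap_eq_of_famY_eq c c le_rfl h h' e
  have h2 : resB (B := B) c c le_rfl = AlgHom.id k _ := by
    refine Algebra.TensorProduct.ext' fun b a => ?_
    rw [Algebra.TensorProduct.map_tmul]
    show (AlgHom.id k B b) ⊗ₜ[k] (resAlg c c le_rfl a) = b ⊗ₜ[k] a
    refine congrArg (fun x : c.A => b ⊗ₜ[k] x) ?_
    show (Y.presheaf.map (homOfLE (le_refl c.D)).op).hom a = a
    rw [show (homOfLE (le_refl c.D)).op = 𝟙 _ from rfl, Y.presheaf.map_id]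
    rfl
  rw [h2] at h1
  rw [← h1]
  exact (Ideal.comap_id J').trans rfl

theorem exists_famY_artinian (A : Art k k) (c : Chart f) (z : Fam f n (spec A)) (hg : z.g = gA k A.carrier)
    {I₀ : Ideal (k ⊗[k] c.A)} (hI₀ : HasBasis n I₀) (hz : z.restr (specRes A) = famY c hI₀) :
    ∃ (J : Ideal (A.carrier ⊗[k] c.A)) (hJ : HasBasis n J),
      famY c hJ = z ∧ J.map (bc c.A A.res).toRingHom = I₀ := by
  haveI := subsingleton_spec A
  have hmem : ∀ w : z.sch, z.q w ∈ c.D := by
    obtain ⟨a, hpb, hq⟩ := z.exists_isPullback_restr (specRes A)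
    intro w
    obtain ⟨v, hv, -⟩ := Scheme.Pullback.exists_preimage_pullback (f := z.p) (g := specRes A) w (closedPoint k)
      (Subsingleton.elim _ _)
    have h1 := (range_of_famY_eq c hI₀ hz.symm).2 (hpb.isoPullback.inv v)
    rw [← hq, ← Scheme.Hom.comp_apply, ← Category.assoc, hpb.isoPullback_inv_fst, Scheme.Hom.comp_apply, hv] at h1
    exact h1
  obtain ⟨J, hJ, e⟩ := exists_famY c z hg hmem
  refine ⟨J, hJ, e, famY_inj c (hasBasis_map A.res hJ) hI₀ ?_⟩
  refine (famY_restr c A.res hJ).symm.trans ?_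
  rw [e]
  exact hz

/-- Square zero extensions of the field as Artinian algebras. -/
def tart (k : Type u) [Field k] (ι : Type) [Finite ι] : Art k k :=
  { carrier := TrivSqZeroExt k (ι → k)
    isLocalRing := Art.isLocalRing_tsze k (ι → k)
    isArtinianRing := Art.isArtinianRing_tsze k (ι → k)
    res := TrivSqZeroExt.fstHom k k (ι → k)
    res_surjective := fun a => ⟨TrivSqZeroExt.inl a, rfl⟩ }

theorem pointOf_map_left {H : Over (Spec (CommRingCat.of k))} {h : Over.mk (𝟙 (Spec (CommRingCat.of k))) ⟶ H}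
    {A B : Art k k} (θ : A ⟶ B) (φ : HomSet (LHilb.locR H h) (LHilb.locRes H h) A) :
    (LHilb.pointOf (HomSet.map θ φ)).left = specMap θ ≫ (LHilb.pointOf φ).left := by
  rw [LHilb.pointOf_left, LHilb.pointOf_left, ← Category.assoc]
  refine congrArg (· ≫ _) ?_
  change Spec.map _ = Spec.map _ ≫ Spec.map _
  rw [← Spec.map_comp]
  rfl

variable {H : Over (Spec (CommRingCat.of k))} {Z : HilbD.Obj f n H} (hH : HilbD.IsUniversal f n H Z)
include hH

/-- The dimension at a tuple of distinct points. -/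
theorem finrank_at_points (c : Chart f) (y : Fin n → (c.A →ₐ[k] k))
    (he : ∀ i, ∃ a : c.A, ∀ l, y l a = if i = l then 1 else 0) (hI : HasBasis n (ptsIdeal y))
    (hS : ∀ (i : Fin n) [(RingHom.ker (y i)).IsPrime], IsRegularLocalRing (Localization.AtPrime (RingHom.ker (y i))) ∧
      ringKrullDim (Localization.AtPrime (RingHom.ker (y i))) = 2)
    (h : Over.mk (𝟙 (Spec (CommRingCat.of k))) ⟶ H) (hh : h.left = cls hH (famY c hI))
    [IsRegularLocalRing (LHilb.locR H h)] {d : ℕ} (hd : ringKrullDim (LHilb.locR H h) = (d : WithBot ℕ∞)) :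
    d = 2 * n := by
  classical
  haveI : ∀ i, (RingHom.ker (y i)).IsPrime := fun i => RingHom.ker_isPrime _
  let S := fun i => Localization.AtPrime (RingHom.ker (y i))
  have hu : ∀ i (a : (RingHom.ker (y i)).primeCompl), IsUnit (y i a) := fun i a =>
    isUnit_iff_ne_zero.2 fun h0 => a.2 (RingHom.mem_ker.2 h0)
  let cS : ∀ i, S i →ₐ[k] k := fun i => IsLocalization.liftAlgHom (hu i)
  have hcS : ∀ i a, cS i (algebraMap c.A (S i) a) = y i a := fun i a => by
    simp [cS, IsLocalization.lift_eq]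
  have hbS : ∀ i, Nonempty (Module.Basis (Fin 2) k (CotangentSpace (S i))) := fun i => by
    haveI := (hS i).1
    obtain ⟨h1, h2⟩ := finrank_cotangent_eq (S i) (cS i) (d := 2) (hS i).2
    haveI := h1
    exact ⟨Module.finBasisOfFinrankEq k _ h2⟩
  let eS := fun i => (hbS i).some.equivFun
  obtain ⟨hfO, hdO⟩ := finrank_cotangent_eq (LHilb.locR H h) (LHilb.locRes H h) hd
  haveI := hfO
  let eO := (Module.finBasisOfFinrankEq k _ hdO).equivFun
  let T₁ := tart k (Fin n × Fin 2)
  let T₂ := tart k (Fin d)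
  let incl : Fin n → ((Fin 2 → k) →ₗ[k] (Fin n × Fin 2 → k)) := fun i =>
    { toFun := fun v p => if p.1 = i then v p.2 else 0
      map_add' := fun v w => funext fun p => by by_cases hp : p.1 = i <;> simp [hp]
      map_smul' := fun r v => funext fun p => by by_cases hp : p.1 = i <;> simp [hp] }
  let proj : Fin n → ((Fin n × Fin 2 → k) →ₗ[k] (Fin 2 → k)) := fun i => LinearMap.funLeft k k fun j => (i, j)
  have hsq₁ := sq_zero_tsze (k := k) (V := Fin n × Fin 2 → k)
  have hsq₂ := sq_zero_tsze (k := k) (V := Fin d → k)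
  have hsq₀ : ∀ a b : k, AlgHom.id k k a = 0 → AlgHom.id k k b = 0 → a * b = 0 := fun a b ha _ => by
    rw [show a = 0 from ha, zero_mul]
  -- the universal tuple of first order deformations
  let αS : ∀ i, S i →ₐ[k] TrivSqZeroExt k (Fin n × Fin 2 → k) := fun i =>
    cotHom (cS i) ((incl i).comp (eS i).toLinearMap)
  let α : Fin n → (c.A →ₐ[k] T₁.carrier) := fun i => (αS i).comp (IsScalarTower.toAlgHom k c.A (S i))
  have hα : ∀ i, (TrivSqZeroExt.fstHom k k (Fin n × Fin 2 → k)).comp (α i) = y i := fun i =>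
    AlgHom.ext fun a => hcS i a
  have hJ₁ : HasBasis n (ptsIdeal α) := hasBasis_ptsIdeal T₁.res hsq₁ he hα
  let F₁ := famY c hJ₁
  let g₁ : Over.mk (specOver T₁) ⟶ H := Over.homMk (cls hH F₁)
    ((congrArg Fam.g (cls_spec hH F₁)).trans (famY_g c hJ₁))
  have hg₁ : specRes T₁ ≫ g₁.left = h.left := by
    rw [hh]
    show specRes T₁ ≫ cls hH F₁ = _
    rw [← cls_restr]
    refine congrArg (cls hH) ((famY_restr c T₁.res hJ₁).trans (famY_congr c ?_ _ hI))
    rw [map_ptsIdeal T₁.res hsq₁ he (AlgHom.id k k) hsq₀ T₁.res (AlgHom.id_comp _) hα]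
    exact congrArg ptsIdeal (funext hα)
  obtain ⟨β, hβ⟩ := LHilb.exists_pointOf g₁ hg₁
  -- the tautological first order deformation
  let γ : HomSet (LHilb.locR H h) (LHilb.locRes H h) T₂ :=
    ⟨cotHom (LHilb.locRes H h) eO.toLinearMap, AlgHom.ext fun a => rfl⟩
  let g₂ := LHilb.pointOf γ
  let zH : Fam f n H.left := ⟨H.hom, Z⟩
  let F₂ := zH.restr g₂.left
  have hg₂ : F₂.g = gA k T₂.carrier := Over.w g₂
  obtain ⟨J₂, hJ₂, eF₂, hJ₂y⟩ := exists_famY_artinian T₂ c F₂ hg₂ hI (by
    rw [Fam.restr_restr, LHilb.specRes_pointOf, hh]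
    exact cls_spec hH (famY c hI))
  obtain ⟨δ, hδ, rfl⟩ := exists_points T₂.res hsq₂ he hJ₂ hJ₂y
  have hδu : ∀ i (a : (RingHom.ker (y i)).primeCompl), IsUnit (δ i a) := fun i a => by
    refine TrivSqZeroExt.isUnit_iff_isUnit_fst.2 ?_
    rw [show (δ i a).fst = y i a from AlgHom.congr_fun (hδ i) a]
    exact hu i a
  let δS : ∀ i, S i →ₐ[k] TrivSqZeroExt k (Fin d → k) := fun i => IsLocalization.liftAlgHom (hδu i)
  have hδS : ∀ i a, δS i (algebraMap c.A (S i) a) = δ i a := fun i a =>
    IsLocalization.lift_eq (g := (δ i).toRingHom) (hδu i) a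
  have hδ0 : ∀ i s, (δS i s).fst = cS i s := fun i s => by
    have e : (TrivSqZeroExt.fstHom k k (Fin d → k)).comp (δS i) = cS i :=
      IsLocalization.algHom_ext (RingHom.ker (y i)).primeCompl (AlgHom.ext fun a => by
        show (δS i (algebraMap c.A (S i) a)).fst = cS i (algebraMap c.A (S i) a)
        rw [hδS, hcS]
        exact AlgHom.congr_fun (hδ i) a)
    exact AlgHom.congr_fun e s
  let D := fun i => tangent (cS i) (δS i) (hδ0 i)
  let Γ : (Fin n × Fin 2 → k) →ₗ[k] (Fin d → k) := ∑ i, (D i).comp ((eS i).symm.toLinearMap.comp (proj i))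
  have hΓ : ∀ i v, Γ (incl i v) = D i ((eS i).symm v) := fun i v => by
    simp only [Γ, LinearMap.sum_apply, LinearMap.comp_apply]
    rw [Finset.sum_eq_single i]
    · refine congrArg (fun w => D i ((eS i).symm w)) (funext fun j => ?_)
      simp [proj, incl, LinearMap.funLeft]
    · intro l _ hl
      have : proj l (incl i v) = 0 := funext fun j => by simp [proj, incl, LinearMap.funLeft, hl]
      rw [this, map_zero, map_zero]
    · simp
  let θ : T₁ ⟶ T₂ := homMk (Art.tszeMap Γ) (AlgHom.ext fun a => rfl)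
  have hθα : ∀ i, θ.toAlgHom.comp (α i) = δ i := fun i => by
    have e : (Art.tszeMap (Λ := k) Γ).comp (αS i) = δS i := hom_ext_tsze (cS i) _ _
      (fun s => rfl) (hδ0 i) fun x => by
        show Γ (αS i x).snd = _
        rw [snd_cotHom, LinearMap.comp_apply, hΓ]
        simp only [LinearEquiv.coe_coe, LinearEquiv.symm_apply_apply, D, tangent_apply]
    refine AlgHom.ext fun a => ?_
    rw [← hδS, ← e]
    rfl
  have hθJ : (ptsIdeal α).map (bc c.A θ.toAlgHom).toRingHom = ptsIdeal δ := by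
    rw [map_ptsIdeal T₁.res hsq₁ he T₂.res hsq₂ θ.toAlgHom θ.res_comp hα]
    exact congrArg ptsIdeal (funext hθα)
  have eθ : HomSet.map θ β = γ := LHilb.pointOf_injective (Over.OverMorphism.ext (by
    rw [pointOf_map_left, hβ]
    show specMap θ ≫ cls hH F₁ = g₂.left
    rw [← cls_restr]
    refine cls_eq hH ?_
    exact eF₂.symm.trans ((famY_congr c hθJ.symm _ _).trans (famY_restr c θ.toAlgHom hJ₁).symm)))
  -- the inverse
  have hβ0 : ∀ a, (β.1 a).fst = LHilb.locRes H h a := fun a => AlgHom.congr_fun β.2 a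
  let ℓ : (Fin d → k) →ₗ[k] (Fin n × Fin 2 → k) :=
    (tangent (LHilb.locRes H h) β.1 hβ0).comp eO.symm.toLinearMap
  let b : T₂ ⟶ T₁ := homMk (Art.tszeMap ℓ) (AlgHom.ext fun a => rfl)
  have eb : HomSet.map b γ = β := Subtype.ext (hom_ext_tsze (LHilb.locRes H h) _ _ (fun a => rfl) hβ0 fun x => by
    show ℓ (cotHom (LHilb.locRes H h) eO.toLinearMap (x : LHilb.locR H h)).snd = _
    rw [snd_cotHom]
    simp only [ℓ, LinearMap.comp_apply, LinearEquiv.coe_coe, LinearEquiv.symm_apply_apply, tangent_apply])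
  have hbF : F₂.restr (specMap b) = F₁ := by
    rw [Fam.restr_restr, ← pointOf_map_left, eb, hβ]
    exact cls_spec hH F₁
  have hbJ : (ptsIdeal δ).map (bc c.A b.toAlgHom).toRingHom = ptsIdeal α := by
    refine famY_inj c (hasBasis_map b.toAlgHom hJ₂) hJ₁ ?_
    refine (famY_restr c b.toAlgHom hJ₂).symm.trans ?_
    rw [eF₂]
    exact hbF
  rw [map_ptsIdeal T₂.res hsq₂ he T₁.res hsq₁ b.toAlgHom b.res_comp hδ] at hbJ
  have hbδ := eq_of_ptsIdeal_eq T₁.res hsq₁ he
    (fun i => by rw [← AlgHom.comp_assoc, b.res_comp, hδ]) hα hbJ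
  have hℓD : ∀ i q, ℓ (D i q) = incl i (eS i q) := fun i q => by
    obtain ⟨x, rfl⟩ := (maximalIdeal (S i)).toCotangent_surjective q
    have e : (Art.tszeMap (Λ := k) ℓ).comp (δS i) = αS i :=
      IsLocalization.algHom_ext (RingHom.ker (y i)).primeCompl (AlgHom.ext fun a => by
        show Art.tszeMap (Λ := k) ℓ (δS i (algebraMap c.A (S i) a)) = _
        rw [hδS]
        exact AlgHom.congr_fun (congrFun hbδ i) a)
    have e2 := congrArg TrivSqZeroExt.snd (AlgHom.congr_fun e (x : S i))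
    simp only [αS, snd_cotHom, LinearMap.comp_apply, LinearEquiv.coe_coe] at e2
    simp only [D, tangent_apply]
    exact e2
  have h1 : ∀ v, Γ (ℓ v) = v := fun v => by
    obtain ⟨q, rfl⟩ := eO.surjective v
    obtain ⟨x, rfl⟩ := (maximalIdeal (LHilb.locR H h)).toCotangent_surjective q
    have e := congrArg TrivSqZeroExt.snd (AlgHom.congr_fun (congrArg Subtype.val eθ) (x : LHilb.locR H h))
    simp only [ℓ, LinearMap.comp_apply, LinearEquiv.coe_coe, LinearEquiv.symm_apply_apply, tangent_apply]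
    refine Eq.trans ?_ (e.trans (snd_cotHom (LHilb.locRes H h) eO.toLinearMap x))
    rfl
  have h2 : ∀ v, ℓ (Γ v) = v := fun v => by
    simp only [Γ, LinearMap.sum_apply, map_sum, LinearMap.comp_apply, LinearEquiv.coe_coe, hℓD,
      LinearEquiv.apply_symm_apply]
    funext p
    simp [incl, proj, LinearMap.funLeft, Finset.sum_apply, Finset.sum_ite_eq]
  have e := (LinearEquiv.ofLinear ℓ Γ (LinearMap.ext h2) (LinearMap.ext h1)).finrank_eq
  rw [Module.finrank_fin_fun, Module.finrank_fintype_fun_eq_card] at e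
  simpa [mul_comm] using e

end Groth.Agent.HilbSurf
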