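import Groth.Agent.HilbSurf.FT
import Groth.Agent.HilbSurf.Dim
import Groth.Agent.MTSplit.Irreducible
import Groth.Agent.RegLoc.Order
import Groth.Agent.GeomProp.SmoothPoint
import Groth.Agent.GrpAct.DimClosed
import Groth.Agent.HilbOne.Separated
import Groth.Agent.S9807
import Mathlib

/-!
# The Hilbert scheme of points of a smooth surface (Fogarty)
-/

set_option autoImplicit false
set_option maxSynthPendingDepth 3
set_option backward.isDefEq.respectTransparency false
set_option linter.style.haveILetI false
set_option maxHeartbeats 4000000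
universe u

open CategoryTheory CategoryTheory.Limits AlgebraicGeometry IsLocalRing ArtFun ArtFun.Art
open scoped TensorProduct

noncomputable section

namespace Groth.Agent.HilbSurf

open Groth.Agent.HilbRep Groth.Agent.Punct Groth.Agent.HilbConn

variable {k : Type u} [Field k] {Y : Scheme.{u}} {f : Y ⟶ Spec (CommRingCat.of k)}

theorem regular_of_smooth [PerfectField k] [Smooth f] (y : Y) : IsRegularLocalRing (Y.presheaf.stalk y) := by
  letI : Y.Over (Spec (CommRingCat.of k)) := ⟨f⟩
  haveI : LocallyOfFiniteType f := inferInstance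
  haveI : LocallyOfFinitePresentation (Y ↘ Spec (CommRingCat.of k)) := (inferInstance : LocallyOfFinitePresentation f)
  refine (GeomProp.smoothLocus_iff_regular (k := k) (X := Y) y).1 ?_
  show y ∈ f.smoothLocus
  rw [(Scheme.Hom.smoothLocus_eq_top_iff (f := f)).2 ‹Smooth f›]
  trivial

theorem irreducible_of_regular {X : Scheme.{u}} [ConnectedSpace X] [IsLocallyNoetherian X]
    (h : ∀ x : X, IsRegularLocalRing (X.presheaf.stalk x)) : IrreducibleSpace X :=
  MTSplit.irreducibleSpace_of_domains' fun x => by
    haveI := h x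
    exact RegLoc.isDomain _

/-- Separating functions for distinct rational points. -/
theorem exists_sep {A : Type u} [CommRing A] [Algebra k A] {n : ℕ} {y : Fin n → (A →ₐ[k] k)}
    (hy : Function.Injective y) (i : Fin n) : ∃ a : A, ∀ l, y l a = if i = l then 1 else 0 := by
  classical
  have h1 : ∀ l, l ≠ i → ∃ b : A, y i b = 1 ∧ y l b = 0 := fun l hl => by
    obtain ⟨b, hb⟩ : ∃ b, y l b ≠ y i b := by
      by_contra! h
      exact hl (hy (AlgHom.ext h))
    refine ⟨(y i b - y l b)⁻¹ • (b - algebraMap k A (y l b)), ?_, ?_⟩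
    · rw [map_smul, map_sub, AlgHom.commutes, smul_eq_mul]
      exact inv_mul_cancel₀ (sub_ne_zero.2 fun h => hb h.symm)
    · rw [map_smul, map_sub, AlgHom.commutes]
      simp
  choose b hb1 hb0 using h1
  refine ⟨∏ l : {l : Fin n // l ≠ i}, b l.1 l.2, fun m => ?_⟩
  rw [map_prod]
  split_ifs with hm
  · subst hm
    exact Finset.prod_eq_one fun l _ => hb1 l.1 l.2
  · exact Finset.prod_eq_zero (Finset.mem_univ ⟨m, fun e => hm e.symm⟩) (hb0 m _)

/-- A positive dimensional connected scheme has many closed points. -/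
theorem exists_closed_points [LocallyOfFiniteType f] [ConnectedSpace Y] (hd : 0 < topologicalKrullDim Y) (n : ℕ) :
    ∃ x : Fin n → Y, Function.Injective x ∧ ∀ i, IsClosed ({x i} : Set Y) := by
  haveI : JacobsonSpace Y := LocallyOfFiniteType.jacobsonSpace f
  have hinf : (closedPoints Y).Infinite := fun hfin => by
    haveI : LocallyOfFiniteType (Over.mk f).hom := ‹LocallyOfFiniteType f›
    haveI : ConnectedSpace (Over.mk f).left := ‹ConnectedSpace Y›
    have hc : IsClosed (closedPoints Y) := by
      rw [← Set.biUnion_of_singleton (closedPoints Y)]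
      exact hfin.isClosed_biUnion fun a ha => ha
    have hu : closedPoints Y = Set.univ := hc.closure_eq.symm.trans closure_closedPoints
    rw [hu] at hfin
    have he : (Set.univ : Set Y) = ∅ := eq_empty_of_finite_open (Y := Over.mk f) hd _ isOpen_univ hfin
    exact Set.univ_nonempty.ne_empty he
  exact ⟨fun i => (hinf.natEmbedding _ i.1).1,
    fun i j h => Fin.ext ((hinf.natEmbedding _).injective (Subtype.ext h)), fun i => (hinf.natEmbedding _ i.1).2⟩

/-- A rational point of a chart gives the stalk at its image. -/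
theorem localization_chart (c : Chart f) (y : c.A →ₐ[k] k) [(RingHom.ker y).IsPrime] :
    Nonempty (Y.presheaf.stalk (ptY c y (closedPoint k)) ≃+* Localization.AtPrime (RingHom.ker y)) := by
  have hx : ptY c y (closedPoint k) ∈ c.D := by
    rw [← SetLike.mem_coe, ← c.range_ι]
    exact ⟨_, rfl⟩
  let x : c.D := ⟨ptY c y (closedPoint k), hx⟩
  have hp : (c.hD.primeIdealOf x).asIdeal = RingHom.ker y := by
    have h1 : c.hD.fromSpec (c.hD.primeIdealOf x) =
        c.hD.fromSpec (Spec.map (CommRingCat.ofHom y.toRingHom) (closedPoint k)) := by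
      rw [IsAffineOpen.fromSpec_primeIdealOf]
      rfl
    rw [c.hD.fromSpec.isOpenEmbedding.injective h1]
    show Ideal.comap y.toRingHom (maximalIdeal k) = _
    rw [(isField_iff_maximalIdeal_eq).1 (Field.toIsField k)]
    rfl
  haveI : (c.hD.primeIdealOf x).asIdeal.IsPrime := inferInstance
  letI : Algebra c.A (Y.presheaf.stalk (ptY c y (closedPoint k))) := Y.presheaf.algebra_section_stalk x
  haveI : IsLocalization.AtPrime (Y.presheaf.stalk (ptY c y (closedPoint k))) (RingHom.ker y) := by
    have hM : (c.hD.primeIdealOf x).asIdeal.primeCompl = (RingHom.ker y).primeCompl := by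
      ext a
      exact not_congr (SetLike.ext_iff.1 hp a)
    have h2 := c.hD.isLocalization_stalk x
    unfold IsLocalization.AtPrime at h2 ⊢
    rw [← hM]
    exact h2
  exact ⟨(IsLocalization.algEquiv (RingHom.ker y).primeCompl (Y.presheaf.stalk (ptY c y (closedPoint k)))
    (Localization.AtPrime (RingHom.ker y))).toRingEquiv⟩

/-- **Fogarty**: the Hilbert scheme of `n` points of a smooth connected surface. -/
theorem fogarty [IsAlgClosed k] [Smooth f] [IsSeparated f] [ConnectedSpace Y] [CompactSpace Y]
    (hfin : ∀ S : Set Y, S.Finite → ∃ U : Y.Opens, IsAffineOpen U ∧ S ⊆ U)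
    (hdim : topologicalKrullDim Y = 2) (n : ℕ) (H : Over (Spec (CommRingCat.of k))) (Z : HilbD.Obj f n H)
    (hH : HilbD.IsUniversal f n H Z) :
    ConnectedSpace H.left ∧ (∀ h : H.left, IsRegularLocalRing (H.left.presheaf.stalk h)) ∧
      topologicalKrullDim H.left = (2 * n : ℕ) := by
  haveI : IsLocallyNoetherian Y := LocallyOfFiniteType.isLocallyNoetherian f
  haveI : IsNoetherian Y := {}
  haveI := irreducible_of_regular (X := Y) (regular_of_smooth (f := f))
  have h2 : ∀ y : Y, IsClosed ({y} : Set Y) → ringKrullDim (Y.presheaf.stalk y) = 2 := fun y hy =>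
    (GrpAct.dim_stalk_closed_eq f y hy).trans hdim
  have hpos : 0 < topologicalKrullDim Y := by
    rw [hdim]
    norm_num
  have hno : ∀ U : Set Y, IsOpen U → U.Finite → U = ∅ := fun U hU hf => by
    haveI : LocallyOfFiniteType (Over.mk f).hom := inferInstanceAs (LocallyOfFiniteType f)
    haveI : ConnectedSpace (Over.mk f).left := ‹ConnectedSpace Y›
    exact eq_empty_of_finite_open (Y := Over.mk f) hpos U hU hf
  haveI : LocallyOfFiniteType H.hom := locallyOfFiniteType_hilb (fun s x _ => by
    obtain ⟨U, hU, hxU⟩ := hfin _ (Set.finite_range x)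
    exact ⟨U, hU, fun i => hxU ⟨i, rfl⟩⟩) H Z hH
  haveI : IsSeparated H.hom := HilbOne.isSeparated_of_universal f n H Z hH
  haveI : IsLocallyNoetherian H.left := LocallyOfFiniteType.isLocallyNoetherian H.hom
  obtain ⟨hne, hzig⟩ := HilbConn.main (f := f) hfin hno zig_of_noetherian n H Z hH
  haveI := hne
  haveI hconn : ConnectedSpace H.left := connectedSpace_of_zig hzig
  have hreg : ∀ h : H.left, IsRegularLocalRing (H.left.presheaf.stalk h) :=
    (Groth.Agent.S9807.result H.left).2 fun x hx =>
      regular_closed hH (fun I₀ hI₀ => isSmoothFunctor_finite h2 I₀ hI₀) x hx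
  refine ⟨hconn, hreg, ?_⟩
  haveI := irreducible_of_regular hreg
  obtain ⟨x, hxinj, hxc⟩ := exists_closed_points (f := f) hpos n
  obtain ⟨c, hc⟩ := exists_chart_mem (f := f) hfin (Set.finite_range x)
  have hy : ∀ i, ∃ y : c.A →ₐ[k] k, ptY c y = pointOfClosedPoint f (x i) (hxc i) := fun i =>
    exists_ptY c _ (by rw [pointOfClosedPoint_comp, gA_self]) fun a => by
      rw [pointOfClosedPoint_apply]
      exact hc _ ⟨i, rfl⟩
  choose y hy using hy
  have hyx : ∀ i, ptY c (y i) (closedPoint k) = x i := fun i => by rw [hy, pointOfClosedPoint_apply]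
  have hyinj : Function.Injective y := fun i j e => hxinj (by rw [← hyx i, ← hyx j, e])
  have he := exists_sep hyinj
  have hI : HasBasis n (ptsIdeal y) := hasBasis_ptsIdeal (AlgHom.id k k)
    (fun a b ha _ => by rw [show a = 0 from ha, zero_mul]) he fun i => AlgHom.id_comp _
  have hS : ∀ (i : Fin n) [(RingHom.ker (y i)).IsPrime],
      IsRegularLocalRing (Localization.AtPrime (RingHom.ker (y i))) ∧
        ringKrullDim (Localization.AtPrime (RingHom.ker (y i))) = 2 := fun i _ => by
    obtain ⟨e⟩ := localization_chart c (y i)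
    haveI := regular_of_smooth (f := f) (ptY c (y i) (closedPoint k))
    refine ⟨IsRegularLocalRing.of_ringEquiv e, ?_⟩
    rw [← ringKrullDim_eq_of_ringEquiv e]
    refine h2 _ ?_
    rw [hyx]
    exact hxc i
  let h : Over.mk (𝟙 (Spec (CommRingCat.of k))) ⟶ H := Over.homMk (cls hH (famY c hI))
    (((congrArg Fam.g (cls_spec hH (famY c hI))).trans (famY_g c hI)).trans (gA_self k))
  haveI := hreg (LHilb.pt H h)
  obtain ⟨d, hd⟩ : ∃ d : ℕ, ringKrullDim (LHilb.locR H h) = (d : WithBot ℕ∞) :=
    ⟨_, ((IsRegularLocalRing.iff_finrank_cotangentSpace _).1 inferInstance).symm⟩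
  obtain rfl := finrank_at_points hH c y he hI hS h rfl hd
  rw [← hd]
  refine (GrpAct.dim_stalk_closed_eq H.hom _ ?_).symm
  haveI : IsClosedImmersion (h.left ≫ H.hom) := by
    rw [show h.left ≫ H.hom = 𝟙 (Spec (CommRingCat.of k)) from Over.w h]
    exact MorphismProperty.id_mem @IsClosedImmersion _
  haveI := IsClosedImmersion.of_comp h.left H.hom
  have e : ({LHilb.pt H h} : Set H.left) = Set.range h.left := by
    ext a
    constructor
    · rintro rfl
      exact ⟨closedPoint k, rfl⟩
    · rintro ⟨b, rfl⟩
      exact congrArg h.left (Subsingleton.elim (α := Spec (CommRingCat.of k)) b _)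
  rw [e]
  exact h.left.isClosedEmbedding.isClosed_range

end Groth.Agent.HilbSurf
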