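import Groth.Agent.HilbRep.Main
import Groth.Agent.Punct.Main
import Mathlib

/-!
# The Hilbert scheme of points is locally of finite type
-/

set_option autoImplicit false
set_option maxSynthPendingDepth 3
set_option backward.isDefEq.respectTransparency false
set_option maxHeartbeats 1600000
set_option linter.style.haveILetI false
universe u

open CategoryTheory CategoryTheory.Limits AlgebraicGeometry

noncomputable section

namespace Groth.Agent.HilbSurf

open Groth.Agent.HilbRep

theorem finiteType_chartRing {R B : Type u} [CommRing R] [CommRing B] [Algebra R B] [Algebra.FiniteType R B] {d : ℕ}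
    (b : Fin d → B) : Algebra.FiniteType R (ChartRing R B b) := by
  classical
  obtain ⟨gs, hgs⟩ := Algebra.FiniteType.out (R := R) (A := B)
  let S : Finset (ChartRing R B b) :=
    (Finset.univ.image fun l : Fin d => coord b 1 l) ∪
      gs.biUnion fun g => Finset.univ.image fun p : Fin d × Fin d => coord b (g * b p.1) p.2
  let C : Subalgebra R (ChartRing R B b) := Algebra.adjoin R (S : Set (ChartRing R B b))
  let P : Subalgebra R B :=
    { carrier := {β | ∀ i l, coord b (β * b i) l ∈ C}
      mul_mem' := by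
        intro β γ hβ hγ i l
        rw [mul_assoc, coord_mul]
        exact Subalgebra.sum_mem _ fun j _ => Subalgebra.mul_mem _ (hγ i j) (hβ j l)
      add_mem' := by
        intro β γ hβ hγ i l
        rw [add_mul, coord_add]
        exact Subalgebra.add_mem _ (hβ i l) (hγ i l)
      algebraMap_mem' := by
        intro r i l
        rw [← Algebra.smul_def, coord_smul, coord_basis]
        refine Subalgebra.smul_mem _ ?_ r
        split_ifs
        exacts [Subalgebra.one_mem _, Subalgebra.zero_mem _] }
  have hP : ∀ β, β ∈ P := fun β => by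
    have hle : Algebra.adjoin R (gs : Set B) ≤ P := Algebra.adjoin_le fun g hg i l =>
      Algebra.subset_adjoin (Finset.mem_coe.2 (Finset.mem_union_right _ (Finset.mem_biUnion.2 ⟨g, hg,
        Finset.mem_image.2 ⟨(i, l), Finset.mem_univ _, rfl⟩⟩)))
    rw [hgs] at hle
    exact hle Algebra.mem_top
  have hcoord : ∀ β l, coord b β l ∈ C := fun β l => by
    have h := coord_mul (R := R) b β 1 l
    rw [mul_one] at h
    rw [h]
    exact Subalgebra.sum_mem _ fun i _ => Subalgebra.mul_mem _ (Algebra.subset_adjoin (Finset.mem_coe.2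
      (Finset.mem_union_left _ (Finset.mem_image.2 ⟨i, Finset.mem_univ _, rfl⟩)))) (hP β i l)
  refine ⟨⟨S, eq_top_iff.2 fun x hx => ?_⟩⟩
  clear hx
  obtain ⟨p, rfl⟩ := Ideal.Quotient.mk_surjective x
  induction p using MvPolynomial.induction_on with
  | C r => exact Subalgebra.algebraMap_mem _ r
  | add p q hp hq => rw [map_add]; exact Subalgebra.add_mem _ hp hq
  | mul_X p v hp => rw [map_mul]; exact Subalgebra.mul_mem _ hp (hcoord v.1 v.2)

variable {X S : Scheme.{u}} {f : X ⟶ S} {d : ℕ}

theorem locallyOfFiniteType_chart [IsSeparated f] [LocallyOfFiniteType f] (c : ChartData f d) :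
    LocallyOfFiniteType c.toBase := by
  have h : (f.appLE c.V c.U c.le).hom.FiniteType :=
    HasRingHomProperty.appLE (P := @LocallyOfFiniteType) f inferInstance ⟨c.V, c.hV⟩ ⟨c.U, c.hU⟩ c.le
  letI := (f.appLE c.V c.U c.le).hom.toAlgebra
  haveI : Algebra.FiniteType Γ(S, c.V) Γ(X, c.U) := h
  haveI := finiteType_chartRing (R := Γ(S, c.V)) c.b
  haveI : LocallyOfFiniteType
      (Spec.map (CommRingCat.ofHom (algebraMap Γ(S, c.V) (ChartRing Γ(S, c.V) Γ(X, c.U) c.b)))) :=
    (HasRingHomProperty.Spec_iff (P := @LocallyOfFiniteType)).2 (RingHom.finiteType_algebraMap.2 inferInstance)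
  rw [ChartData.toBase]
  infer_instance

/-- The Hilbert scheme of points is locally of finite type. -/
theorem locallyOfFiniteType_hilb [IsSeparated f] [LocallyOfFiniteType f]
    (hX : ∀ (s : S) (x : Fin d → X), (∀ i, f.base (x i) = s) → ∃ U : X.Opens, IsAffineOpen U ∧ ∀ i, x i ∈ U)
    (H : Over S) (Z : HilbD.Obj f d H) (hH : HilbD.IsUniversal f d H Z) : LocallyOfFiniteType H.hom := by
  let zH : Fam f d H.left := ⟨H.hom, Z⟩
  choose c hc using exists_chart hX zH
  let 𝒰 : H.left.OpenCover := Scheme.Cover.mkOfCovers H.left (fun t => (goodLocus (c t) zH).toScheme)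
    (fun t => (goodLocus (c t) zH).ι) fun t => ⟨t, ⟨t, hc t⟩, rfl⟩
  refine IsZariskiLocalAtSource.of_openCover (P := @LocallyOfFiniteType) 𝒰 fun t => ?_
  show LocallyOfFiniteType ((goodLocus (c t) zH).ι ≫ H.hom)
  let O := goodLocus (c t) zH
  obtain ⟨a, ha, -⟩ := existsUnique_classify (zH.restr O.ι) fun x => preimage_goodLocus zH O.ι x.2
  obtain ⟨v, hv, -⟩ := Punct.existsUnique_classify f d H Z hH (c t).univ
  have hav : a ≫ v = O.ι := by
    refine (Punct.existsUnique_classify f d H Z hH (zH.restr O.ι)).unique ?_ rfl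
    show zH.restr (a ≫ v) = _
    rw [← Fam.restr_restr]
    exact (congrArg (fun w => Fam.restr w a) hv).trans ha
  have hrange : Set.range v ⊆ Set.range O.ι := by
    rintro _ ⟨w, rfl⟩
    rw [Scheme.Opens.range_ι]
    refine mem_goodLocus_image zH v ?_
    rw [show zH.restr v = (c t).univ from hv]
    exact mem_goodLocus_of_good (good_univ (c t)) _
  let v' := IsOpenImmersion.lift O.ι v hrange
  have hv' : v' ≫ O.ι = v := IsOpenImmersion.lift_fac _ _ _
  have h1 : v' ≫ a = 𝟙 _ := by
    refine (existsUnique_classify (c t).univ fun w => mem_goodLocus_of_good (good_univ (c t)) w).unique ?_ ?_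
    · rw [← Fam.restr_restr, ha, Fam.restr_restr, hv']
      exact hv
    · exact Fam.restr_id _
  have h2 : a ≫ v' = 𝟙 _ := by
    rw [← cancel_mono O.ι, Category.assoc, hv', hav, Category.id_comp]
  haveI : IsIso a := ⟨v', h2, h1⟩
  haveI := locallyOfFiniteType_chart (c t)
  have e : O.ι ≫ H.hom = a ≫ (c t).toBase := by
    rw [← hav, Category.assoc, show v ≫ H.hom = (c t).toBase from congrArg Fam.g hv]
  rw [e]
  infer_instance

end Groth.Agent.HilbSurf
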