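import Groth.Agent.HilbConn.Affine
import Mathlib

/-!
# Deformations of distinct points over square zero extensions of the field
-/

set_option autoImplicit false
set_option maxSynthPendingDepth 3
set_option linter.style.haveILetI false
universe u

open scoped TensorProduct

noncomputable section

namespace Groth.Agent.HilbSurf

open Groth.Agent.Punct Groth.Agent.HilbConn

variable {k A : Type u} [Field k] [CommRing A] [Algebra k A] {R : Type u} [CommRing R] [Algebra k R] {n : ℕ}

/-- The ideal of a tuple of points. -/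
abbrev ptsIdeal (α : Fin n → (A →ₐ[k] R)) : Ideal (R ⊗[k] A) := ⨅ i, RingHom.ker (ev (α i))

theorem mem_ptsIdeal (α : Fin n → (A →ₐ[k] R)) (x : R ⊗[k] A) : x ∈ ptsIdeal α ↔ ∀ i, ev (α i) x = 0 := by
  simp [ptsIdeal, Submodule.mem_iInf, RingHom.mem_ker]

theorem eq_of_le_basis {I H : Ideal (R ⊗[k] A)} (hI : HasBasis n I) (hH : HasBasis n H) (hle : I ≤ H) : I = H := by
  obtain ⟨v, hv⟩ := hI
  obtain ⟨w, hw⟩ := hH
  let L : (Fin n → R) ≃ₗ[R] (R ⊗[k] A) ⧸ I :=
    LinearEquiv.ofBijective (Fintype.linearCombination R v) (by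
      convert hv using 1
      funext c
      simp [Fintype.linearCombination_apply, Algebra.smul_def])
  let L' : (Fin n → R) ≃ₗ[R] (R ⊗[k] A) ⧸ H :=
    LinearEquiv.ofBijective (Fintype.linearCombination R w) (by
      convert hw using 1
      funext c
      simp [Fintype.linearCombination_apply, Algebra.smul_def])
  let q : ((R ⊗[k] A) ⧸ I) →ₗ[R] (R ⊗[k] A) ⧸ H := (Ideal.Quotient.factorₐ R hle).toLinearMap
  have hq : Function.Surjective q := Ideal.Quotient.factor_surjective hle
  let g : (Fin n → R) →ₗ[R] (Fin n → R) := L'.symm.toLinearMap ∘ₗ q ∘ₗ L.toLinearMap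
  have hg : Function.Injective g :=
    OrzechProperty.injective_of_surjective_endomorphism g (L'.symm.surjective.comp (hq.comp L.surjective))
  have hqi : Function.Injective q := fun a b hab => by
    obtain ⟨a, rfl⟩ := L.surjective a
    obtain ⟨b, rfl⟩ := L.surjective b
    exact congrArg L (hg (by simp only [g, LinearMap.comp_apply, LinearEquiv.coe_coe, hab]))
  refine le_antisymm hle fun z hz => Ideal.Quotient.eq_zero_iff_mem.1 (hqi ?_)
  rw [map_zero]
  exact Ideal.Quotient.eq_zero_iff_mem.2 hz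

variable (χ : R →ₐ[k] k) (hsq : ∀ a b : R, χ a = 0 → χ b = 0 → a * b = 0)
  {y : Fin n → (A →ₐ[k] k)} (he : ∀ i, ∃ a : A, ∀ l, y l a = if i = l then 1 else 0)
include hsq he

theorem exists_dual {α : Fin n → (A →ₐ[k] R)} (hα : ∀ i, χ.comp (α i) = y i) (w : Fin n → R) :
    ∃ x : R ⊗[k] A, ∀ l, ev (α l) x = w l := by
  classical
  choose a ha using he
  let u : Fin n → R ⊗[k] A := fun i => (1 : R) ⊗ₜ[k] a i
  let d : Fin n → Fin n → R := fun i l => α l (a i) - if i = l then 1 else 0
  have hd : ∀ i l, χ (d i l) = 0 := fun i l => by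
    have := AlgHom.congr_fun (hα l) (a i)
    rw [AlgHom.comp_apply] at this
    simp [d, this, ha, apply_ite χ]
  let μ : Fin n → R := fun l => ∑ i, w i * d i l
  have hμ : ∀ l, χ (μ l) = 0 := fun l => by simp [μ, hd]
  have hev : ∀ (c : Fin n → R) l, ev (α l) (∑ i, c i • u i) = c l + ∑ i, c i * d i l := fun c l => by
    simp only [map_sum, map_smul, d, mul_sub, Finset.sum_sub_distrib, mul_ite, mul_one, mul_zero,
      Finset.sum_ite_eq', Finset.mem_univ, if_true]
    simp [u, smul_eq_mul]
  refine ⟨∑ i, (w i - μ i) • u i, fun l => ?_⟩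
  rw [hev]
  have h0 : ∀ i, μ i * d i l = 0 := fun i => hsq _ _ (hμ i) (hd i l)
  simp only [sub_mul, h0, sub_zero]
  simp [μ]

theorem hasBasis_ptsIdeal {α : Fin n → (A →ₐ[k] R)} (hα : ∀ i, χ.comp (α i) = y i) : HasBasis n (ptsIdeal α) := by
  classical
  choose x hx using fun i : Fin n => exists_dual χ hsq he hα (Pi.single i 1)
  refine ⟨fun i => Ideal.Quotient.mk _ (x i), ?_⟩
  have e : (fun c : Fin n → R => ∑ i, algebraMap R ((R ⊗[k] A) ⧸ ptsIdeal α) (c i) * Ideal.Quotient.mk _ (x i)) =
      fun c => Ideal.Quotient.mk _ (∑ i, c i • x i) := by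
    funext c
    rw [map_sum]
    refine Finset.sum_congr rfl fun i _ => ?_
    rw [Algebra.smul_def, map_mul]
    rfl
  rw [e]
  have hev : ∀ (c : Fin n → R) l, ev (α l) (∑ i, c i • x i) = c l := fun c l => by
    simp [map_sum, hx, Pi.single_apply, mul_ite]
  constructor
  · intro c c' h
    funext l
    have h1 := (mem_ptsIdeal α _).1 (Ideal.Quotient.eq.1 h) l
    rwa [map_sub, hev, hev, sub_eq_zero] at h1
  · intro q
    obtain ⟨z, rfl⟩ := Ideal.Quotient.mk_surjective q
    refine ⟨fun l => ev (α l) z, Ideal.Quotient.eq.2 ((mem_ptsIdeal α _).2 fun l => ?_)⟩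
    rw [map_sub, hev, sub_self]

/-- The points are determined by the ideal. -/
theorem eq_of_ptsIdeal_eq {α α' : Fin n → (A →ₐ[k] R)} (hα : ∀ i, χ.comp (α i) = y i)
    (hα' : ∀ i, χ.comp (α' i) = y i) (h : ptsIdeal α = ptsIdeal α') : α = α' := by
  classical
  funext l
  obtain ⟨e, he'⟩ := exists_dual χ hsq he hα (Pi.single l 1)
  have h1 : ev (α' l) (e * e - e) = 0 := (mem_ptsIdeal α' _).1 (h ▸ (mem_ptsIdeal α _).2 fun i => by
    rw [map_sub, map_mul, he']
    by_cases hi : i = l <;> simp [hi]) l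
  have hχ : ∀ (β : A →ₐ[k] R) (z : R ⊗[k] A), χ (ev β z) = ev (χ.comp β) (bc A χ z) := fun β z => (ev_bc χ β z).symm
  have h2 : χ (ev (α' l) e) = 1 := by
    rw [hχ, hα', ← hα, ← hχ, he']
    simp
  have h3 : ev (α' l) e = 1 := by
    rw [map_sub, map_mul] at h1
    have h4 : (1 - ev (α' l) e) * (1 - ev (α' l) e) = 0 := hsq _ _ (by simp [h2]) (by simp [h2])
    linear_combination h1 - h4
  refine AlgHom.ext fun a => ?_
  let z : R ⊗[k] A := (1 : R) ⊗ₜ[k] a
  have h5 : ev (α' l) (z * e - α l a • e) = 0 := (mem_ptsIdeal α' _).1 (h ▸ (mem_ptsIdeal α _).2 fun i => by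
    rw [map_sub, map_mul, map_smul, he']
    by_cases hi : i = l
    · subst hi; simp [z]
    · simp [hi]) l
  rw [map_sub, map_mul, map_smul, h3, mul_one, smul_eq_mul, mul_one, sub_eq_zero] at h5
  simpa [z] using h5.symm

omit hsq he in
theorem sub_one_tmul_mem (x : R ⊗[k] A) :
    x - (Algebra.TensorProduct.includeRight : A →ₐ[k] R ⊗[k] A) (Algebra.TensorProduct.lid k A (bc A χ x)) ∈
      (RingHom.ker χ).map (algebraMap R (R ⊗[k] A)) := by
  induction x using TensorProduct.induction_on with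
  | zero => simp
  | add x y hx hy =>
    simp only [map_add]
    rw [add_sub_add_comm]
    exact add_mem hx hy
  | tmul r a =>
    have e : r ⊗ₜ[k] a - (Algebra.TensorProduct.includeRight : A →ₐ[k] R ⊗[k] A)
        (Algebra.TensorProduct.lid k A (bc A χ (r ⊗ₜ[k] a))) =
        algebraMap R (R ⊗[k] A) (r - algebraMap k R (χ r)) * ((1 : R) ⊗ₜ[k] a) := by
      simp [TensorProduct.sub_tmul, TensorProduct.tmul_smul, Algebra.algebraMap_eq_smul_one,
        TensorProduct.smul_tmul']
    rw [e]
    exact Ideal.mul_mem_right _ _ (Ideal.mem_map_of_mem _ (by simp))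

/-- Deformations of distinct points are tuples of deformed points. -/
theorem exists_points {J : Ideal (R ⊗[k] A)} (hJ : HasBasis n J)
    (hJy : J.map (bc A χ).toRingHom = ptsIdeal y) :
    ∃ α : Fin n → (A →ₐ[k] R), (∀ i, χ.comp (α i) = y i) ∧ ptsIdeal α = J := by
  classical
  obtain ⟨v, hv⟩ := id hJ
  let L : (Fin n → R) ≃ₗ[R] (R ⊗[k] A) ⧸ J :=
    LinearEquiv.ofBijective (Fintype.linearCombination R v) (by
      convert hv using 1
      funext c
      simp [Fintype.linearCombination_apply, Algebra.smul_def])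
  let M : Ideal ((R ⊗[k] A) ⧸ J) := (RingHom.ker χ).map (algebraMap R _)
  have hMM : ∀ p ∈ M, ∀ q ∈ M, p * q = 0 := by
    intro p hp
    induction hp using Submodule.span_induction with
    | zero => simp
    | add p p' _ _ h h' => intro q hq; rw [add_mul, h q hq, h' q hq, add_zero]
    | smul r p _ h => intro q hq; rw [smul_eq_mul, mul_assoc, h q hq, mul_zero]
    | mem p hp =>
      obtain ⟨a, ha, rfl⟩ := hp
      intro q hq
      induction hq using Submodule.span_induction with
      | zero => simp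
      | add q q' _ _ h h' => rw [mul_add, h, h', add_zero]
      | smul r q _ h => rw [smul_eq_mul, mul_left_comm, h, mul_zero]
      | mem q hq =>
        obtain ⟨b, hb, rfl⟩ := hq
        rw [← map_mul, hsq a b ha hb, map_zero]
  let mk : R ⊗[k] A →ₐ[R] (R ⊗[k] A) ⧸ J := Ideal.Quotient.mkₐ R J
  have hmk : ∀ z ∈ (RingHom.ker χ).map (algebraMap R (R ⊗[k] A)), mk z ∈ M := by
    intro z hz
    have := Ideal.mem_map_of_mem mk.toRingHom hz
    rw [Ideal.map_map] at this
    exact this
  have hres : ∀ z : R ⊗[k] A, (∀ i, ev (y i) (bc A χ z) = 0) → mk z ∈ M := by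
    intro z hz
    have hz' : bc A χ z ∈ J.map (bc A χ).toRingHom := hJy ▸ (mem_ptsIdeal y _).2 hz
    obtain ⟨w, hw, hwz⟩ := (Ideal.mem_map_iff_of_surjective (bc A χ).toRingHom (fun t => by
      refine ⟨(Algebra.TensorProduct.includeRight : A →ₐ[k] R ⊗[k] A) (Algebra.TensorProduct.lid k A t), ?_⟩
      show bc A χ ((1 : R) ⊗ₜ[k] Algebra.TensorProduct.lid k A t) = t
      rw [Algebra.TensorProduct.map_tmul, map_one, AlgHom.id_apply]
      exact (Algebra.TensorProduct.lid k A).symm_apply_apply t)).1 hz'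
    have h1 := hmk _ (sub_one_tmul_mem χ (z - w))
    rw [map_sub (bc A χ), show bc A χ w = bc A χ z from hwz, sub_self, map_zero, map_zero, sub_zero, map_sub] at h1
    rwa [show mk w = 0 from Ideal.Quotient.eq_zero_iff_mem.2 hw, sub_zero] at h1
  choose a ha using he
  let u : Fin n → R ⊗[k] A := fun i => (1 : R) ⊗ₜ[k] a i
  have hu : ∀ i l, ev (y l) (bc A χ (u i)) = if i = l then 1 else 0 := fun i l => by simp [u, ha]
  let e : Fin n → R ⊗[k] A := fun i => 3 * (u i * u i) - 2 * (u i * u i * u i)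
  have hee : ∀ i, mk (e i) * mk (e i) = mk (e i) := fun i => by
    have h1 : mk (u i * u i - u i) ∈ M := hres _ fun l => by
      simp only [map_sub, map_mul, hu]
      split_ifs <;> simp
    have h2 := hMM _ h1 _ h1
    rw [← map_mul] at h2
    rw [← map_mul, ← sub_eq_zero, ← map_sub,
      show e i * e i - e i = (u i * u i - u i) * (u i * u i - u i) * (4 * (u i * u i) - 4 * u i - 3) by
        simp only [e]; ring,
      map_mul, h2, zero_mul]
  have hel : ∀ i l, ev (y l) (bc A χ (e i)) = if i = l then 1 else 0 := fun i l => by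
    simp only [e, map_sub, map_mul, map_ofNat, hu]
    split_ifs <;> norm_num
  have horth : ∀ i l, i ≠ l → mk (e i) * mk (e l) = 0 := fun i l hil => by
    have h1 : mk (e i * e l) ∈ M := hres _ fun j => by
      simp only [map_mul, hel]
      by_cases hij : i = j
      · rw [if_pos hij, if_neg fun h => hil (hij.trans h.symm), mul_zero]
      · rw [if_neg hij, zero_mul]
    have h2 := hMM _ h1 _ h1
    rw [map_mul] at h2
    calc mk (e i) * mk (e l) = (mk (e i) * mk (e i)) * (mk (e l) * mk (e l)) := by rw [hee, hee]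
      _ = 0 := by rw [← h2]; ring
  let G : (Fin n → R) →ₗ[R] (R ⊗[k] A) ⧸ J := Fintype.linearCombination R fun i => mk (e i)
  have hGM : ∀ q, ∃ c, q - G c ∈ M := fun q => by
    obtain ⟨z, rfl⟩ := Ideal.Quotient.mk_surjective q
    refine ⟨fun i => algebraMap k R (ev (y i) (bc A χ z)), ?_⟩
    show mk z - G _ ∈ M
    simp only [G, Fintype.linearCombination_apply, ← map_smul, ← map_sum, ← map_sub]
    refine hres _ fun l => ?_
    simp [map_sub, map_sum, bc_smul, hel, mul_ite]
  have hGs : Function.Surjective G := by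
    intro q
    obtain ⟨c, hc⟩ := hGM q
    suffices h : ∀ p ∈ M, p ∈ LinearMap.range G by
      obtain ⟨c', hc'⟩ := h _ hc
      exact ⟨c + c', by rw [map_add, hc', add_sub_cancel]⟩
    intro p hp
    have : p ∈ (RingHom.ker χ) • (⊤ : Submodule R ((R ⊗[k] A) ⧸ J)) := by
      rw [Ideal.smul_top_eq_map]
      exact hp
    refine Submodule.smul_induction_on this (fun r hr q _ => ?_) fun s t hs ht => add_mem hs ht
    obtain ⟨c', hc'⟩ := hGM q
    refine ⟨r • c', ?_⟩
    rw [map_smul, ← sub_eq_zero, ← smul_sub, Algebra.smul_def]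
    exact hMM _ (Ideal.mem_map_of_mem _ hr) _ (by rw [← neg_sub]; exact neg_mem hc')
  have hG : Function.Bijective G := by
    refine ⟨fun c c' h => ?_, hGs⟩
    let g : (Fin n → R) →ₗ[R] (Fin n → R) := L.symm.toLinearMap ∘ₗ G
    exact OrzechProperty.injective_of_surjective_endomorphism g (L.symm.surjective.comp hGs)
      (congrArg L.symm h)
  let Ge := LinearEquiv.ofBijective G hG
  have hGl : ∀ (c : Fin n → R) l, G c * mk (e l) = c l • mk (e l) := fun c l => by
    simp only [G, Fintype.linearCombination_apply, Finset.sum_mul]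
    rw [Finset.sum_eq_single l (fun i _ hi => by rw [smul_mul_assoc, horth i l hi, smul_zero]) (by simp)]
    rw [smul_mul_assoc, hee]
  have huniq : ∀ (c d : R) l, c • mk (e l) = d • mk (e l) → c = d := fun c d l h => by
    have h1 : G (Pi.single l c) = G (Pi.single l d) := by simpa [G, Fintype.linearCombination_apply_single] using h
    simpa using congrFun (hG.1 h1) l
  let co : R ⊗[k] A →ₗ[R] (Fin n → R) := Ge.symm.toLinearMap ∘ₗ mk.toLinearMap
  have hco : ∀ z l, co z l • mk (e l) = mk z * mk (e l) := fun z l => by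
    rw [← hGl]
    exact congrArg (· * mk (e l)) (Ge.apply_symm_apply (mk z))
  let α : Fin n → (A →ₐ[k] R) := fun l =>
    { toFun := fun a => co ((1 : R) ⊗ₜ[k] a) l
      map_one' := huniq _ _ l (by
        rw [hco, one_smul, ← Algebra.TensorProduct.one_def, map_one, one_mul])
      map_mul' := fun a b => huniq _ _ l (by
        rw [hco, show (1 : R) ⊗ₜ[k] (a * b) = ((1 : R) ⊗ₜ[k] a) * ((1 : R) ⊗ₜ[k] b) by simp, map_mul, mul_smul,
          hco, ← mul_smul_comm, hco]
        ring)
      map_zero' := by simp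
      map_add' := fun a b => by simp [TensorProduct.tmul_add]
      commutes' := fun r => huniq _ _ l (by
        rw [hco, show (1 : R) ⊗ₜ[k] algebraMap k A r = algebraMap R (R ⊗[k] A) (algebraMap k R r) by
          rw [Algebra.TensorProduct.algebraMap_apply, Algebra.algebraMap_self, RingHom.id_apply,
            Algebra.algebraMap_eq_smul_one, Algebra.algebraMap_eq_smul_one, TensorProduct.smul_tmul],
          AlgHom.commutes, ← Algebra.smul_def]) }
  have hev : ∀ z l, ev (α l) z = co z l := by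
    intro z l
    induction z using TensorProduct.induction_on with
    | zero => simp
    | add z z' h h' => simp only [map_add, Pi.add_apply, h, h']
    | tmul r a =>
      rw [show r ⊗ₜ[k] a = r • ((1 : R) ⊗ₜ[k] a) by rw [TensorProduct.smul_tmul', smul_eq_mul, mul_one],
        map_smul, map_smul, Pi.smul_apply]
      simp [α]
  refine ⟨α, fun l => AlgHom.ext fun a => ?_, ?_⟩
  · have h0 : mk (co ((1 : R) ⊗ₜ[k] a) l • e l - ((1 : R) ⊗ₜ[k] a) * e l) = 0 := by
      rw [map_sub, map_smul, hco, map_mul, sub_self]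
    have h1 := Ideal.Quotient.eq_zero_iff_mem.1 h0
    have h2 : bc A χ (co ((1 : R) ⊗ₜ[k] a) l • e l - ((1 : R) ⊗ₜ[k] a) * e l) ∈ ptsIdeal y := by
      rw [← hJy]; exact Ideal.mem_map_of_mem (bc A χ).toRingHom h1
    have h3 := (mem_ptsIdeal y _).1 h2 l
    rw [map_sub, map_sub, bc_smul, map_smul, map_mul, map_mul, hel, if_pos rfl] at h3
    simp only [Algebra.TensorProduct.map_tmul, map_one, AlgHom.id_apply, Algebra.TensorProduct.lift_tmul,
      one_mul, mul_one, smul_eq_mul, sub_eq_zero] at h3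
    exact h3
  · ext z
    rw [mem_ptsIdeal]
    simp only [hev]
    rw [← Ideal.Quotient.eq_zero_iff_mem]
    refine ⟨fun h => ?_, fun h l => ?_⟩
    · have h1 : co z = 0 := funext h
      exact (Ge.symm.map_eq_zero_iff.1 h1)
    · exact congrFun (show co z = 0 from Ge.symm.map_eq_zero_iff.2 h) l

theorem map_ptsIdeal {R' : Type u} [CommRing R'] [Algebra k R'] (χ' : R' →ₐ[k] k)
    (hsq' : ∀ a b : R', χ' a = 0 → χ' b = 0 → a * b = 0) (φ : R →ₐ[k] R') (hφ : χ'.comp φ = χ)
    {α : Fin n → (A →ₐ[k] R)} (hα : ∀ i, χ.comp (α i) = y i) :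
    (ptsIdeal α).map (bc A φ).toRingHom = ptsIdeal fun i => φ.comp (α i) := by
  have hα' : ∀ i, χ'.comp (φ.comp (α i)) = y i := fun i => by rw [← AlgHom.comp_assoc, hφ, hα]
  refine eq_of_le_basis (hasBasis_map φ (hasBasis_ptsIdeal χ hsq he hα)) (hasBasis_ptsIdeal χ' hsq' he hα')
    (Ideal.map_le_iff_le_comap.2 fun x hx => (mem_ptsIdeal _ _).2 fun i => ?_)
  show ev (φ.comp (α i)) (bc A φ x) = 0
  rw [ev_bc, (mem_ptsIdeal α x).1 hx i, map_zero]

end Groth.Agent.HilbSurf
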