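import Groth.Agent.HilbSurf.Split
import Mathlib

/-!
# Tangent vectors of local rings with values in square zero extensions
-/

set_option autoImplicit false
set_option maxSynthPendingDepth 3
set_option linter.style.haveILetI false
universe u

open IsLocalRing

noncomputable section

namespace Groth.Agent.HilbSurf

variable {k P : Type u} [Field k] [CommRing P] [IsLocalRing P] [Algebra k P]
  {V : Type u} [AddCommGroup V] [Module k V] [Module kᵐᵒᵖ V] [IsCentralScalar k V]

theorem ker_eq_maximalIdeal (c : P →ₐ[k] k) : RingHom.ker c = maximalIdeal P :=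
  IsLocalRing.eq_maximalIdeal (RingHom.ker_isMaximal_of_surjective c fun r => ⟨algebraMap k P r, c.commutes r⟩)

theorem sub_mem_maximalIdeal (c : P →ₐ[k] k) (a : P) : a - algebraMap k P (c a) ∈ maximalIdeal P := by
  rw [← ker_eq_maximalIdeal c, RingHom.mem_ker, map_sub, AlgHom.commutes]
  exact sub_self _

/-- The truncated coordinate at a rational point. -/
def dcot (c : P →ₐ[k] k) (a : P) : CotangentSpace P :=
  (maximalIdeal P).toCotangent ⟨a - algebraMap k P (c a), sub_mem_maximalIdeal c a⟩

theorem dcot_mul (c : P →ₐ[k] k) (a b : P) : dcot c (a * b) = c a • dcot c b + c b • dcot c a := by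
  simp only [dcot, ← LinearMap.map_smul_of_tower, ← map_add]
  rw [Ideal.toCotangent_eq]
  simp only [Submodule.coe_add, Submodule.coe_smul_of_tower, Algebra.smul_def, map_mul]
  have h : (a - algebraMap k P (c a)) * (b - algebraMap k P (c b)) ∈ maximalIdeal P ^ 2 := by
    rw [pow_two]
    exact Ideal.mul_mem_mul (sub_mem_maximalIdeal c a) (sub_mem_maximalIdeal c b)
  convert h using 1
  ring

/-- The square zero valued point of a tangent map. -/
def cotHom (c : P →ₐ[k] k) (ℓ : CotangentSpace P →ₗ[k] V) : P →ₐ[k] TrivSqZeroExt k V where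
  toFun a := (c a, ℓ (dcot c a))
  map_one' := TrivSqZeroExt.ext (map_one c) (by
    show ℓ (dcot c 1) = (0 : V)
    rw [show dcot c (1 : P) = 0 by
      rw [dcot, Ideal.toCotangent_eq_zero]; simp, map_zero])
  map_mul' a b := TrivSqZeroExt.ext (map_mul c a b) (by
    show ℓ (dcot c (a * b)) = c a • ℓ (dcot c b) + MulOpposite.op (c b) • ℓ (dcot c a)
    rw [dcot_mul, map_add, map_smul, map_smul, op_smul_eq_smul])
  map_zero' := TrivSqZeroExt.ext (map_zero c) (by
    show ℓ (dcot c 0) = (0 : V)
    rw [show dcot c (0 : P) = 0 by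
      rw [dcot, Ideal.toCotangent_eq_zero]; simp, map_zero])
  map_add' a b := TrivSqZeroExt.ext (map_add c a b) (by
    show ℓ (dcot c (a + b)) = ℓ (dcot c a) + ℓ (dcot c b)
    rw [← map_add ℓ]
    refine congrArg ℓ ?_
    rw [dcot, dcot, dcot, ← map_add]
    refine congrArg _ (Subtype.ext ?_)
    simp only [Submodule.coe_add, map_add]
    ring)
  commutes' r := TrivSqZeroExt.ext (c.commutes r) (by
    show ℓ (dcot c (algebraMap k P r)) = (algebraMap k (TrivSqZeroExt k V) r).snd
    rw [show dcot c (algebraMap k P r) = 0 by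
      rw [dcot, Ideal.toCotangent_eq_zero]; simp, map_zero, TrivSqZeroExt.algebraMap_eq_inl,
      TrivSqZeroExt.snd_inl])

theorem fst_cotHom (c : P →ₐ[k] k) (ℓ : CotangentSpace P →ₗ[k] V) (a : P) : (cotHom c ℓ a).fst = c a := rfl

theorem snd_cotHom (c : P →ₐ[k] k) (ℓ : CotangentSpace P →ₗ[k] V) (x : maximalIdeal P) :
    (cotHom c ℓ x).snd = ℓ ((maximalIdeal P).toCotangent x) := by
  show ℓ (dcot c x) = _
  refine congrArg ℓ ?_
  have h : c x = 0 := RingHom.mem_ker.1 ((ker_eq_maximalIdeal c).ge x.2)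
  rw [dcot]
  exact congrArg _ (Subtype.ext (by simp [h]))

theorem hom_ext_tsze (c : P →ₐ[k] k) (ψ ψ' : P →ₐ[k] TrivSqZeroExt k V) (h0 : ∀ a, (ψ a).fst = c a)
    (h0' : ∀ a, (ψ' a).fst = c a) (h : ∀ x : maximalIdeal P, (ψ x).snd = (ψ' x).snd) : ψ = ψ' := by
  refine AlgHom.ext fun a => TrivSqZeroExt.ext ((h0 a).trans (h0' a).symm) ?_
  have h1 := h ⟨_, sub_mem_maximalIdeal c a⟩
  simp only [map_sub, AlgHom.commutes, TrivSqZeroExt.snd_sub, TrivSqZeroExt.algebraMap_eq_inl,
    TrivSqZeroExt.snd_inl, sub_zero] at h1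
  exact h1

theorem snd_eq_zero_of_mem_sq (c : P →ₐ[k] k) (ψ : P →ₐ[k] TrivSqZeroExt k V) (h0 : ∀ a, (ψ a).fst = c a)
    {x : P} (hx : x ∈ maximalIdeal P ^ 2) : (ψ x).snd = 0 := by
  rw [pow_two] at hx
  refine Submodule.mul_induction_on hx (fun a ha b hb => ?_) fun a b ha hb => ?_
  · rw [← ker_eq_maximalIdeal c, RingHom.mem_ker] at ha hb
    rw [map_mul, TrivSqZeroExt.snd_mul, h0, h0, ha, hb]
    simp
  · rw [map_add, TrivSqZeroExt.snd_add, ha, hb, add_zero]

/-- The tangent map of a square zero valued point. -/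
def tangent (c : P →ₐ[k] k) (ψ : P →ₐ[k] TrivSqZeroExt k V) (h0 : ∀ a, (ψ a).fst = c a) :
    CotangentSpace P →ₗ[k] V :=
  have key : ∀ x y : maximalIdeal P, (maximalIdeal P).toCotangent x = (maximalIdeal P).toCotangent y →
      (ψ x).snd = (ψ y).snd := fun x y h => by
    have h1 := snd_eq_zero_of_mem_sq c ψ h0 (Ideal.toCotangent_eq _ |>.1 h)
    rwa [map_sub, TrivSqZeroExt.snd_sub, sub_eq_zero] at h1
  { toFun := fun q => (ψ ((maximalIdeal P).toCotangent_surjective q).choose).snd
    map_add' := fun p q => by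
      rw [← TrivSqZeroExt.snd_add, ← map_add, ← Submodule.coe_add]
      refine key _ _ ?_
      rw [map_add]
      simp only [((maximalIdeal P).toCotangent_surjective _).choose_spec]
    map_smul' := fun r q => by
      rw [RingHom.id_apply, ← TrivSqZeroExt.snd_smul, ← map_smul, ← Submodule.coe_smul_of_tower]
      refine key _ _ ?_
      rw [LinearMap.map_smul_of_tower]
      simp only [((maximalIdeal P).toCotangent_surjective _).choose_spec] }

theorem tangent_apply (c : P →ₐ[k] k) (ψ : P →ₐ[k] TrivSqZeroExt k V) (h0 : ∀ a, (ψ a).fst = c a)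
    (x : maximalIdeal P) : tangent c ψ h0 ((maximalIdeal P).toCotangent x) = (ψ x).snd := by
  have h1 := snd_eq_zero_of_mem_sq c ψ h0
    (Ideal.toCotangent_eq _ |>.1 ((maximalIdeal P).toCotangent_surjective ((maximalIdeal P).toCotangent x)).choose_spec)
  rw [map_sub, TrivSqZeroExt.snd_sub, sub_eq_zero] at h1
  exact h1

theorem sq_zero_tsze (a b : TrivSqZeroExt k V) (ha : TrivSqZeroExt.fstHom k k V a = 0)
    (hb : TrivSqZeroExt.fstHom k k V b = 0) : a * b = 0 := by
  have ha' : a.fst = 0 := ha
  have hb' : b.fst = 0 := hb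
  refine TrivSqZeroExt.ext (by simp [ha']) ?_
  simp [ha', hb']

/-- The cotangent space of a regular local ring with residue field `k`. -/
theorem finrank_cotangent_eq (A : Type u) [CommRing A] [IsRegularLocalRing A] [Algebra k A] (c : A →ₐ[k] k) {d : ℕ}
    (hd : ringKrullDim A = (d : WithBot ℕ∞)) :
    Module.Finite k (CotangentSpace A) ∧ Module.finrank k (CotangentSpace A) = d := by
  have hbij : Function.Bijective (algebraMap k (ResidueField A)) := by
    refine ⟨RingHom.injective _, fun q => ?_⟩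
    obtain ⟨a, rfl⟩ := IsLocalRing.residue_surjective q
    refine ⟨c a, ?_⟩
    rw [IsScalarTower.algebraMap_apply k A (ResidueField A)]
    refine Ideal.Quotient.eq.2 ?_
    rw [← neg_sub]
    exact neg_mem (sub_mem_maximalIdeal c a)
  haveI : IsScalarTower k (ResidueField A) (CotangentSpace A) := ⟨fun r q x => by
    obtain ⟨a, rfl⟩ := IsLocalRing.residue_surjective q
    rw [show r • residue A a = residue A (r • a) from rfl]
    exact smul_assoc r a x⟩
  have hf : Module.Finite k (ResidueField A) :=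
    Module.Finite.of_surjective (Algebra.linearMap k (ResidueField A)) hbij.2
  refine ⟨Module.Finite.trans (ResidueField A) (CotangentSpace A), ?_⟩
  have h1 : Module.finrank k (ResidueField A) = 1 := by
    rw [← (LinearEquiv.ofBijective (Algebra.linearMap k (ResidueField A)) hbij).finrank_eq, Module.finrank_self]
  have h2 : (Module.finrank (ResidueField A) (CotangentSpace A) : WithBot ℕ∞) = (d : WithBot ℕ∞) := by
    rw [← hd]
    exact (IsRegularLocalRing.iff_finrank_cotangentSpace A).1 inferInstance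
  rw [← Module.finrank_mul_finrank k (ResidueField A) (CotangentSpace A), h1, one_mul]
  exact_mod_cast h2

end Groth.Agent.HilbSurf
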